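import Groth.Agent.Lib.MultLocal.Main
import Groth.Agent.Lib.SmoothDiv6.Alg
import Mathlib

/-!
# Homomorphisms to groups of multiplicative type extend across a discrete valuation
-/

set_option autoImplicit false
set_option linter.style.haveILetI false
universe u

open TensorProduct IsLocalRing

namespace GrothLib.MultExt14

open GrothLib.MultLocal

theorem exists_eq_pow_mul_of_mul_eq_pow {R : Type u} [CommRing R] {p : R}
    (hreg : IsSMulRegular R p) (hp : Prime p) :
    ∀ (N : ℕ) (a b : R), a * b = p ^ N → ∃ (i : ℕ) (v : R), IsUnit v ∧ a = p ^ i * v := by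
  intro N
  induction N with
  | zero => exact fun a b h => ⟨0, a, IsUnit.of_mul_eq_one b (by simpa using h), by simp⟩
  | succ N ih =>
    intro a b h
    rcases hp.dvd_or_dvd (show p ∣ a * b by rw [h, pow_succ]; exact dvd_mul_left p _) with ⟨c, rfl⟩ | ⟨c, rfl⟩
    · obtain ⟨i, v, hv, rfl⟩ := ih c b (hreg (by simp only [smul_eq_mul]; rw [← mul_assoc, h, pow_succ']))
      exact ⟨i + 1, v, hv, by rw [pow_succ', mul_assoc]⟩
    · exact ih a c (hreg (by simp only [smul_eq_mul]; rw [mul_left_comm, h, pow_succ']))

variable {R : Type u} [CommRing R] [IsDomain R] [IsDiscreteValuationRing R]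
  {A : Type u} [CommRing A] [HopfAlgebra R A] [Algebra.FiniteType R A]
  {L : Type u} [CommRing L] [IsLocalRing L] [Algebra R L] [Algebra.FormallySmooth R L]
  [Algebra.EssFiniteType R L] [Module.Flat R L]

theorem prime_uniformizer {L' : Type u} [CommRing L'] [IsLocalRing L'] [Algebra R L'] [Algebra.FormallySmooth R L']
    [Algebra.EssFiniteType R L'] [Module.Flat R L'] {π : R} (hπ : Irreducible π)
    (hπ' : ¬ IsUnit (algebraMap R L' π)) :
    IsSMulRegular L' (algebraMap R L' π) ∧ Prime (algebraMap R L' π) := by
  have hreg : IsSMulRegular L' (algebraMap R L' π) := by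
    have h := Module.Flat.isSMulRegular_of_isRegular (M := L') (isRegular_of_ne_zero hπ.ne_zero)
    exact fun a b hab => h (by simpa [Algebra.smul_def] using hab)
  refine ⟨hreg, ?_⟩
  let p := maximalIdeal R
  have hp : p = Ideal.span {π} := hπ.maximalIdeal_eq
  letI : Field (R ⧸ p) := Ideal.Quotient.field p
  let I : Ideal L' := p.map (algebraMap R L')
  have hI : I = Ideal.span {algebraMap R L' π} := by
    rw [show I = p.map (algebraMap R L') from rfl, hp, Ideal.map_span, Set.image_singleton]
  let T := (R ⧸ p) ⊗[R] L'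
  let ε : (L' ⧸ I) ≃+* T := ((Algebra.TensorProduct.quotIdealMapEquivTensorQuot L' p).toRingEquiv).trans
    (Algebra.TensorProduct.comm R L' (R ⧸ p)).toRingEquiv
  haveI : Nontrivial (L' ⧸ I) := Ideal.Quotient.nontrivial_iff.mpr fun h => hπ' (by
    rw [hI, Ideal.span_singleton_eq_top] at h
    exact h)
  haveI : IsLocalRing (L' ⧸ I) := IsLocalRing.of_surjective' (Ideal.Quotient.mk I) Ideal.Quotient.mk_surjective
  haveI : IsLocalRing T := ε.isLocalRing
  haveI : IsRegularLocalRing T := GrothLib.SmoothDiv6.isRegularLocalRing_of_formallySmooth_field (R ⧸ p) T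
  haveI := GrothLib.CMFree.isDomain_of_isRegularLocalRing T
  haveI : IsDomain (L' ⧸ I) := ε.injective.isDomain ε.toRingHom
  have hne : algebraMap R L' π ≠ 0 := fun h => one_ne_zero (hreg (a₁ := (1 : L')) (a₂ := 0) (by simp [h]))
  have hI' : I.IsPrime := Ideal.Quotient.isDomain_iff_prime I |>.1 inferInstance
  rw [hI] at hI'
  exact (Ideal.span_singleton_prime hne).1 hI'

/-- **Core extension lemma.** A point of a group of multiplicative type with values in the generic fibre of a
formally smooth local algebra over a discrete valuation ring, which is neutral along a section, is integral. -/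
theorem mem_range_of_counit (hA : SGA3b.IsMultType R A) (e : L →ₐ[R] R) {π : R} (hπ : Irreducible π)
    (ψ : A →ₐ[R] Localization.Away (algebraMap R L π))
    (hψ : ∀ (a : A) (b : L) (k : ℕ),
      ψ a * algebraMap L (Localization.Away (algebraMap R L π)) (algebraMap R L π) ^ k = algebraMap L _ b →
      e b = π ^ k * Coalgebra.counit (R := R) a) (a : A) :
    ψ a ∈ (algebraMap L (Localization.Away (algebraMap R L π))).range := by
  classical
  obtain ⟨E, _, _, q, M, _, hEt, hq, hqp, -, g, hg⟩ := exists_etale_frame_of_isMultType hA (maximalIdeal R)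
  haveI := hq
  -- the étale stage
  let e₁ : E ⊗[R] L →ₐ[E] E := Algebra.TensorProduct.lift (Algebra.ofId E E)
    ((Algebra.ofId R E).comp e) fun _ _ => Commute.all _ _
  let Q : Ideal (E ⊗[R] L) := q.comap e₁
  let L' := Localization.AtPrime Q
  let Eq := Localization.AtPrime q
  let e' : L' →ₐ[E] Eq := IsLocalization.liftAlgHom (M := Q.primeCompl) (f := (Algebra.ofId E Eq).comp e₁)
    fun y => IsLocalization.map_units Eq (⟨e₁ y.1, y.2⟩ : q.primeCompl)
  have he' : ∀ y : E ⊗[R] L, e' (algebraMap _ L' y) = algebraMap E Eq (e₁ y) := fun y => by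
    simp only [e', IsLocalization.liftAlgHom_apply, IsLocalization.lift_eq]
    rfl
  letI : Algebra L (E ⊗[R] L) := Algebra.TensorProduct.rightAlgebra
  let j : L →ₐ[R] L' := (IsScalarTower.toAlgHom R (E ⊗[R] L) L').comp Algebra.TensorProduct.includeRight
  have hej : ∀ b : L, e' (j b) = algebraMap R Eq (e b) := fun b => by
    simp only [j, AlgHom.comp_apply, IsScalarTower.coe_toAlgHom', he', e₁]
    rw [Algebra.TensorProduct.includeRight_apply, Algebra.TensorProduct.lift_tmul]
    simp [Algebra.ofId_apply, IsScalarTower.algebraMap_apply R E Eq]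
  haveI : Algebra.FormallySmooth R (E ⊗[R] L) := Algebra.FormallySmooth.comp R E (E ⊗[R] L)
  haveI : Algebra.FormallySmooth R L' := inferInstanceAs (Algebra.FormallySmooth R (Localization Q.primeCompl))
  haveI : Algebra.EssFiniteType R (E ⊗[R] L) := Algebra.EssFiniteType.comp R E (E ⊗[R] L)
  haveI : Algebra.EssFiniteType R L' := Algebra.EssFiniteType.comp R (E ⊗[R] L) L'
  haveI : Module.Flat R E := inferInstance
  haveI : Module.Flat R (E ⊗[R] L) := inferInstance
  haveI : Module.Flat R L' := Module.Flat.trans R (E ⊗[R] L) L'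
  haveI : Module.Flat R Eq := Module.Flat.trans R E Eq
  have hπE : ¬ IsUnit (algebraMap R Eq π) := by
    rw [IsScalarTower.algebraMap_apply R E Eq, IsLocalization.AtPrime.isUnit_to_map_iff Eq q]
    refine fun h => h ?_
    show algebraMap R E π ∈ q
    rw [← Ideal.mem_comap, hqp, hπ.maximalIdeal_eq]
    exact Ideal.mem_span_singleton_self π
  have hπL : ¬ IsUnit (algebraMap R L' π) := fun h => hπE (by simpa using h.map e')
  obtain ⟨hreg, hprime⟩ := prime_uniformizer (L' := L') hπ hπL
  have hregE : IsSMulRegular Eq (algebraMap R Eq π) := by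
    have h := Module.Flat.isSMulRegular_of_isRegular (M := Eq) (isRegular_of_ne_zero hπ.ne_zero)
    exact fun a b hab => h (by simpa [Algebra.smul_def] using hab)
  -- inverting the uniformizer
  let P := Localization.Away (algebraMap R L' π)
  have hjx : j (algebraMap R L π) = algebraMap R L' π := j.commutes π
  let jP : Localization.Away (algebraMap R L π) →ₐ[R] P := IsLocalization.Away.liftAlgHom (algebraMap R L π)
    (f := (IsScalarTower.toAlgHom R L' P).comp j)
    (by rw [AlgHom.comp_apply, hjx]; exact IsLocalization.Away.algebraMap_isUnit (S := P) (algebraMap R L' π))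
  have hjP : ∀ b : L, jP (algebraMap L _ b) = algebraMap L' P (j b) := fun b => by
    simp only [jP, IsLocalization.Away.liftAlgHom_apply, IsLocalization.Away.lift_eq]
    rfl
  have he'π : e' (algebraMap R L' π) = algebraMap R Eq π := (e'.restrictScalars R).commutes π
  let EK := Localization.Away (algebraMap R Eq π)
  let eK : P →ₐ[E] EK := IsLocalization.Away.liftAlgHom (algebraMap R L' π)
    (f := (IsScalarTower.toAlgHom E Eq EK).comp e')
    (by simpa [← IsScalarTower.algebraMap_apply R Eq EK] using IsLocalization.Away.algebraMap_isUnit (S := EK) (algebraMap R Eq π))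
  have heK : ∀ b : L', eK (algebraMap L' P b) = algebraMap Eq EK (e' b) := fun b => by
    simp only [eK, IsLocalization.Away.liftAlgHom_apply, IsLocalization.Away.lift_eq]
    rfl
  let Φ : E ⊗[R] A →ₐ[E] P := Algebra.TensorProduct.lift (Algebra.ofId E P) (jP.comp ψ) fun _ _ => Commute.all _ _
  have hΦ : ∀ y : E ⊗[R] A, eK (Φ y) = algebraMap E EK (Coalgebra.counit (R := E) y) := by
    intro y
    induction y using TensorProduct.induction_on with
    | zero => simp
    | add y z hy hz => simp [hy, hz]
    | tmul c a =>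
      obtain ⟨k, b, hb⟩ := IsLocalization.Away.surj (algebraMap R L π) (ψ a)
      have h1 := congrArg (fun z => eK (jP z)) hb
      simp only [map_mul, map_pow, hjP, heK, hjx, he'π, hej, hψ a b k hb] at h1
      rw [mul_comm] at h1
      have h2 : eK (jP (ψ a)) = algebraMap Eq EK (algebraMap R Eq (Coalgebra.counit (R := R) a)) :=
        ((IsLocalization.Away.algebraMap_isUnit (S := EK) (algebraMap R Eq π)).pow k).mul_left_cancel h1
      simp only [Φ, Algebra.TensorProduct.lift_tmul, Algebra.ofId_apply, map_mul, AlgHom.commutes, AlgHom.comp_apply,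
        h2, TensorProduct.counit_tmul, Algebra.smul_def]
      simp [IsScalarTower.algebraMap_apply R E EK, IsScalarTower.algebraMap_apply R E Eq, ← IsScalarTower.algebraMap_apply E Eq EK, mul_comm]
  -- group-like elements go to units
  let S : Subalgebra E P := (IsScalarTower.toAlgHom E L' P).range
  have hinjP : Function.Injective (algebraMap L' P) :=
    IsLocalization.injective (M := Submonoid.powers (algebraMap R L' π)) P (by
      rintro _ ⟨n, rfl⟩
      exact mem_nonZeroDivisors_iff_right.2 fun z hz => (hreg.pow n) (by simpa [mul_comm] using hz))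
  have hinjE : Function.Injective (algebraMap Eq EK) :=
    IsLocalization.injective (M := Submonoid.powers (algebraMap R Eq π)) EK (by
      rintro _ ⟨n, rfl⟩
      exact mem_nonZeroDivisors_iff_right.2 fun z hz => (hregE.pow n) (by simpa [mul_comm] using hz))
  have hgl : ∀ m : M, Φ (g m).val ∈ S := by
    intro m
    obtain ⟨n, l, hl⟩ := IsLocalization.Away.surj (algebraMap R L' π) (Φ (g m).val)
    obtain ⟨n', l', hl'⟩ := IsLocalization.Away.surj (algebraMap R L' π) (Φ (g m⁻¹).val)
    have hone : Φ (g m).val * Φ (g m⁻¹).val = 1 := by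
      rw [← map_mul, ← GroupLike.val_mul, ← map_mul, mul_inv_cancel, map_one, GroupLike.val_one, map_one]
    have hll : l * l' = algebraMap R L' π ^ (n + n') := hinjP (by
      rw [map_mul, ← hl, ← hl', mul_mul_mul_comm, hone, one_mul, ← pow_add, map_pow])
    obtain ⟨i, v, hv, rfl⟩ := exists_eq_pow_mul_of_mul_eq_pow hreg hprime _ _ _ hll
    have h1 : algebraMap R Eq π ^ n = algebraMap R Eq π ^ i * e' v := hinjE (by
      have h := congrArg eK hl
      rw [map_mul, map_pow, hΦ, (g m).isGroupLikeElem_val.counit_eq_one, map_one, one_mul] at h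
      simpa [heK] using h)
    have hin : i = n := by
      rcases lt_trichotomy i n with h | h | h
      · obtain ⟨d, rfl⟩ := Nat.exists_eq_add_of_lt h
        rw [add_assoc, pow_add] at h1
        have h2 : algebraMap R Eq π ^ (d + 1) = e' v := (hregE.pow i) (by simpa using h1)
        exact absurd (h2 ▸ hv.map e' : IsUnit (algebraMap R Eq π ^ (d + 1)))
          (fun hu => hπE ((isUnit_pow_iff d.succ_ne_zero).1 hu))
      · exact h
      · obtain ⟨d, rfl⟩ := Nat.exists_eq_add_of_lt h
        rw [add_assoc, pow_add, mul_assoc] at h1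
        have h2 : (1 : Eq) = algebraMap R Eq π ^ (d + 1) * e' v := (hregE.pow n) (by simpa using h1)
        exact absurd (IsUnit.of_mul_eq_one _ h2.symm) (fun hu => hπE ((isUnit_pow_iff d.succ_ne_zero).1 hu))
    subst hin
    refine ⟨v, ?_⟩
    rw [map_mul, map_pow, mul_comm (algebraMap L' P _ ^ i)] at hl
    exact (((IsLocalization.Away.algebraMap_isUnit (S := P) (algebraMap R L' π)).pow i).mul_right_cancel hl).symm
  have hall : ∀ y : E ⊗[R] A, Φ y ∈ S := by
    intro y
    obtain ⟨z, rfl⟩ := hg.2 y
    induction z using MonoidAlgebra.induction_linear with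
    | zero => simp
    | add z₁ z₂ h₁ h₂ => rw [map_add, map_add]; exact add_mem h₁ h₂
    | single m r => rw [glHom_single, map_smul]; exact Subalgebra.smul_mem S (hgl m) r
  -- descent
  obtain ⟨k, b, hb⟩ := IsLocalization.Away.surj (algebraMap R L π) (ψ a)
  obtain ⟨w, hw⟩ := hall (1 ⊗ₜ a)
  have hw' : jP (ψ a) = algebraMap L' P w := by
    simpa [Φ] using hw.symm
  have hb' : algebraMap R L' π ^ k * w = j b := hinjP (by
    rw [← hjP, ← hb, map_mul, map_pow, map_mul, map_pow, hjP, hjx, hw', mul_comm])
  have hjL : ∀ b : L, algebraMap L L' b = j b := fun b => IsScalarTower.algebraMap_apply L (E ⊗[R] L) L' b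
  haveI : Module.Flat L (E ⊗[R] L) := Module.Flat.of_linearEquiv (Algebra.TensorProduct.commRight R L E).symm.toLinearEquiv
  haveI : Module.Flat L L' := Module.Flat.trans L (E ⊗[R] L) L'
  haveI : IsLocalHom (algebraMap L L') := ⟨fun b hb => by
    rw [hjL] at hb
    have h1 : IsUnit (algebraMap R Eq (e b)) := hej b ▸ hb.map e'
    by_contra hnb
    have hm : e b ∈ maximalIdeal R := by
      have hsurj : Function.Surjective e := fun r => ⟨algebraMap R L r, e.commutes r⟩
      have := IsLocalRing.eq_maximalIdeal (Ideal.comap_isMaximal_of_surjective (e : L →+* R) hsurj (K := maximalIdeal R))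
      exact show b ∈ (maximalIdeal R).comap (e : L →+* R) from this ▸ hnb
    rw [← hqp, Ideal.mem_comap] at hm
    rw [IsScalarTower.algebraMap_apply R E Eq, IsLocalization.AtPrime.isUnit_to_map_iff Eq q] at h1
    exact h1 hm⟩
  haveI : Module.FaithfullyFlat L L' := Module.FaithfullyFlat.of_flat_of_isLocalHom
  have hmem : b ∈ ((Ideal.span {(algebraMap R L π) ^ k}).map (algebraMap L L')).comap (algebraMap L L') := by
    rw [Ideal.mem_comap, Ideal.map_span, Set.image_singleton, Ideal.mem_span_singleton]
    exact ⟨w, by rw [map_pow, hjL, hjL, hjx, hb']⟩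
  rw [Ideal.comap_map_eq_self_of_faithfullyFlat, Ideal.mem_span_singleton] at hmem
  obtain ⟨c, rfl⟩ := hmem
  refine ⟨c, ?_⟩
  rw [map_mul, map_pow, mul_comm] at hb
  exact ((((IsLocalization.Away.algebraMap_isUnit (S := Localization.Away (algebraMap R L π)) (algebraMap R L π)).pow k).mul_left_cancel hb)).symm

end GrothLib.MultExt14
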