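import Groth.Agent.S2543
import Groth.Agent.Lib.ProfTranslate.Closure
import Groth.Agent.Lib.UnrMono.SmoothNormal
import Groth.Prelude

/-!
# Smooth groups with connected fibres over normal integral schemes
-/

set_option autoImplicit false
set_option backward.isDefEq.respectTransparency false
set_option linter.style.haveILetI false
universe u

open CategoryTheory CategoryTheory.Limits AlgebraicGeometry
open MonoidalCategory CartesianMonoidalCategory MonObj

noncomputable section

namespace GrothLib.MultExt14

variable {S : Scheme.{u}} (H : Over S) [GrpObj H]

theorem isIrreducible_fibre (hconn : ∀ s : S, ConnectedSpace ↥(pullback H.hom (S.fromSpecResidueField s))) (s : S) :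
    IsIrreducible (H.hom ⁻¹' {s}) := by
  let G := Red.bc (S.fromSpecResidueField s) H
  haveI : ConnectedSpace G.left := hconn s
  haveI := ProfTranslate.irreducibleSpace G
  have hr : Set.range (pullback.fst H.hom (S.fromSpecResidueField s)) = H.hom ⁻¹' {s} := by
    rw [Scheme.Pullback.range_fst, Scheme.range_fromSpecResidueField]
  rw [← hr, ← Set.image_univ]
  exact (IrreducibleSpace.isIrreducible_univ (G.left : Type u)).image _ (pullback.fst H.hom _).continuous.continuousOn

theorem isIntegral_of_connected_fibres [IsIntegral S] [Smooth H.hom]
    (hconn : ∀ s : S, ConnectedSpace ↥(pullback H.hom (S.fromSpecResidueField s))) : IsIntegral H.left := by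
  haveI : IrreducibleSpace H.left := Groth.Agent.S2543.result H.hom (Flat.generalizingMap H.hom)
    (isIrreducible_fibre H hconn _)
  haveI : ∀ x : H.left, _root_.IsReduced (H.left.presheaf.stalk x) := fun x =>
    UnrMono.isReduced_stalk_of_smooth H.hom x
  haveI : IsReduced H.left := isReduced_of_isReduced_stalk H.left
  exact isIntegral_of_irreducibleSpace_of_isReduced H.left

end GrothLib.MultExt14
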