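import Groth.Agent.Lib.MultExt14.Point
import Groth.Agent.Lib.MultExt14.Integral
import Groth.Agent.Lib.NormalSerre.AssPrincipal
import Mathlib.RingTheory.Ideal.GoingDown

/-!
# Generic homomorphisms to groups of multiplicative type extend over normal bases
-/

set_option autoImplicit false
set_option backward.isDefEq.respectTransparency false
set_option linter.style.haveILetI false
universe u

open CategoryTheory CategoryTheory.Limits AlgebraicGeometry
open MonoidalCategory CartesianMonoidalCategory MonObj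

noncomputable section

namespace GrothLib.MultExt14

/-- Two morphisms to a separated scheme agreeing at the generic point agree on opens. -/
theorem eq_of_comp_eq {X Y Z S : Scheme.{u}} [IsIntegral X] (j : Y ⟶ X) [IsOpenImmersion j] (pZ : Z ⟶ S) [IsSeparated pZ]
    (g : Spec X.functionField ⟶ Y) (hg : g ≫ j = X.fromSpecStalk (genericPoint X)) (a b : Y ⟶ Z)
    (h : a ≫ pZ = b ≫ pZ) (hab : g ≫ a = g ≫ b) : a = b := by
  haveI : IsReduced Y := isReduced_of_isOpenImmersion j
  haveI : IsDominant g := ⟨by
    have hd : Dense (j ⁻¹' {genericPoint X}) :=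
      (dense_iff_closure_eq.2 (genericPoint_spec X)).preimage j.isOpenEmbedding.isOpenMap
    refine hd.mono fun y hy => ⟨IsLocalRing.closedPoint _, j.isOpenEmbedding.injective ?_⟩
    rw [show j (g _) = (g ≫ j) _ from (Scheme.Hom.comp_apply g j _).symm, hg, Scheme.fromSpecStalk_closedPoint]
    exact (Set.mem_singleton_iff.1 hy).symm⟩
  exact ext_of_isDominant_of_isSeparated pZ h g hab

variable {S : Scheme.{u}} [IsIntegral S] {T H : Over S} [IsIntegral H.left]

/-- The rational map extends to the local ring at `x`. -/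
def Good (gam : Spec H.left.functionField ⟶ T.left) (x : H.left) : Prop :=
  ∃ φ : Spec (H.left.presheaf.stalk x) ⟶ T.left, φ ≫ T.hom = H.left.fromSpecStalk x ≫ H.hom ∧
    Spec.map (H.left.presheaf.stalkSpecializes ((genericPoint_spec H.left).specializes (Set.mem_univ x))) ≫ φ = gam

theorem Good.generize {gam : Spec H.left.functionField ⟶ T.left} {x y : H.left} (h : y ⤳ x) (hx : Good gam x) :
    Good gam y := by
  obtain ⟨φ, h1, h2⟩ := hx
  refine ⟨Spec.map (H.left.presheaf.stalkSpecializes h) ≫ φ, ?_, ?_⟩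
  · rw [Category.assoc, h1, Scheme.SpecMap_stalkSpecializes_fromSpecStalk_assoc]
  · rw [← Spec.map_comp_assoc, TopCat.Presheaf.stalkSpecializes_comp, ← h2]

/-- Hartogs: a rational map to an affine morphism defined at height one points extends to affine opens. -/
theorem exists_extend_affine [IsAffineHom T.hom] (gam : Spec H.left.functionField ⟶ T.left)
    (hgam : gam ≫ T.hom = H.left.fromSpecStalk (genericPoint H.left) ≫ H.hom) {W : H.left.Opens} (hW : IsAffineOpen W)
    [Nonempty W] {V : S.Opens} (hV : IsAffineOpen V) (hWV : W ≤ H.hom ⁻¹ᵁ V) [IsNoetherianRing Γ(H.left, W)]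
    [IsIntegrallyClosed Γ(H.left, W)]
    (hgood : ∀ x : W, (hW.primeIdealOf x).asIdeal.height = 1 → Good gam (x : H.left)) :
    ∃ w : (W : Scheme.{u}) ⟶ T.left, w ≫ T.hom = W.ι ≫ H.hom ∧
      W.fromSpecStalkOfMem (genericPoint H.left) ((genericPoint_spec H.left).mem_open_set_iff W.2 |>.2 ⟨_, trivial, (Classical.arbitrary W).2⟩) ≫ w = gam := by
  have hξ : genericPoint H.left ∈ W :=
    (genericPoint_spec H.left).mem_open_set_iff W.2 |>.2 ⟨_, trivial, (Classical.arbitrary W).2⟩
  let U : T.left.Opens := T.hom ⁻¹ᵁ V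
  have hU : IsAffineOpen U := hV.preimage T.hom
  have hr : ∀ {Y : Scheme.{u}} (φ : Y ⟶ T.left) (g : Y ⟶ (W : Scheme.{u})),
      φ ≫ T.hom = g ≫ W.ι ≫ H.hom → Set.range φ ⊆ Set.range U.ι := by
    rintro Y φ g hφ _ ⟨y, rfl⟩
    rw [Scheme.Opens.range_ι]
    show T.hom (φ y) ∈ V
    rw [← Scheme.Hom.comp_apply, hφ, Scheme.Hom.comp_apply, Scheme.Hom.comp_apply]
    exact hWV (g y).2
  let toW : ∀ x : W, Spec (H.left.presheaf.stalk (x : H.left)) ⟶ (W : Scheme.{u}) :=
    fun x => W.fromSpecStalkOfMem x.1 x.2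
  have htoW : ∀ x : W, toW x ≫ W.ι = H.left.fromSpecStalk x.1 := fun x => W.fromSpecStalkOfMem_ι x.1 x.2
  have hgamW := hr gam (toW ⟨_, hξ⟩) (by rw [hgam, reassoc_of% (htoW ⟨_, hξ⟩)])
  let gam' : Spec H.left.functionField ⟶ Spec Γ(T.left, U) := IsOpenImmersion.lift U.ι gam hgamW ≫ hU.isoSpec.hom
  let c : Γ(T.left, U) ⟶ H.left.functionField := Spec.preimage gam'
  letI : Algebra Γ(H.left, W) H.left.functionField := inferInstance
  haveI : IsFractionRing Γ(H.left, W) H.left.functionField := functionField_isFractionRing_of_isAffineOpen H.left W hW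
  have hrange : ∀ t, c t ∈ (algebraMap Γ(H.left, W) H.left.functionField).range := by
    intro t
    let ee := FractionRing.algEquiv Γ(H.left, W) H.left.functionField
    obtain ⟨b, hb⟩ := NormalSerre.mem_range_of_forall_height_one (A := Γ(H.left, W)) (ee.symm (c t)) (fun P _ hP => by
      let y : W := ⟨hW.fromSpec ⟨P, inferInstance⟩, hW.range_fromSpec.le ⟨_, rfl⟩⟩
      have hy : hW.primeIdealOf y = ⟨P, inferInstance⟩ := hW.fromSpec.isOpenEmbedding.injective (hW.fromSpec_primeIdealOf y)
      obtain ⟨φ, hφ1, hφ2⟩ := hgood y (by rw [hy]; exact hP)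
      have hφr := hr φ (toW y) (by rw [hφ1, reassoc_of% (htoW y)])
      let cy : Γ(T.left, U) ⟶ H.left.presheaf.stalk y.1 := Spec.preimage (IsOpenImmersion.lift U.ι φ hφr ≫ hU.isoSpec.hom)
      have hc : cy ≫ H.left.presheaf.stalkSpecializes ((genericPoint_spec H.left).specializes (Set.mem_univ y.1)) = c := by
        apply Spec.map_injective
        simp only [c, cy, Spec.map_comp, Spec.map_preimage, gam']
        rw [← Category.assoc]
        congr 1
        rw [← cancel_mono U.ι, Category.assoc, IsOpenImmersion.lift_fac, IsOpenImmersion.lift_fac, hφ2]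
      letI := TopCat.Presheaf.algebra_section_stalk H.left.presheaf y
      haveI : IsLocalization.AtPrime (H.left.presheaf.stalk y.1) P := by
        have h := hW.isLocalization_stalk y
        rwa [hy] at h
      obtain ⟨⟨r, s⟩, hrs⟩ := IsLocalization.surj P.primeCompl (cy t)
      refine ⟨r, s.1, s.2, ?_⟩
      apply ee.injective
      rw [map_mul, AlgEquiv.commutes, AlgEquiv.commutes, AlgEquiv.apply_symm_apply]
      haveI : IsScalarTower Γ(H.left, W) (H.left.presheaf.stalk y.1) H.left.functionField := functionField_isScalarTower H.left W y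
      rw [← hc, IsScalarTower.algebraMap_apply Γ(H.left, W) (H.left.presheaf.stalk y.1) H.left.functionField r,
        IsScalarTower.algebraMap_apply Γ(H.left, W) (H.left.presheaf.stalk y.1) H.left.functionField s.1, ← hrs, map_mul]
      rfl)
    exact ⟨b, by rw [← ee.commutes b, hb, AlgEquiv.apply_symm_apply]⟩
  choose d hd using hrange
  have hinj := IsFractionRing.injective Γ(H.left, W) H.left.functionField
  let dh : Γ(T.left, U) ⟶ Γ(H.left, W) := CommRingCat.ofHom
    { toFun := d
      map_one' := hinj (by rw [hd, map_one, map_one])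
      map_mul' := fun a b => hinj (by rw [hd, map_mul, map_mul, hd, hd])
      map_zero' := hinj (by rw [hd, map_zero, map_zero])
      map_add' := fun a b => hinj (by rw [hd, map_add, map_add, hd, hd]) }
  have hdh : dh ≫ CommRingCat.ofHom (algebraMap Γ(H.left, W) H.left.functionField) = c :=
    CommRingCat.hom_ext (RingHom.ext hd)
  let w' : (W : Scheme.{u}) ⟶ (U : Scheme.{u}) := hW.isoSpec.hom ≫ Spec.map dh ≫ hU.isoSpec.inv
  have hgen : W.fromSpecStalkOfMem (genericPoint H.left) hξ ≫ w' = IsOpenImmersion.lift U.ι gam hgamW := by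
    rw [← cancel_mono hU.isoSpec.hom]
    simp only [w', Category.assoc, Iso.inv_hom_id, Category.comp_id]
    have h1 : W.fromSpecStalkOfMem (genericPoint H.left) hξ ≫ hW.isoSpec.hom =
        Spec.map (CommRingCat.ofHom (algebraMap Γ(H.left, W) H.left.functionField)) := by
      rw [← cancel_mono hW.isoSpec.inv, Category.assoc, Iso.hom_inv_id, Category.comp_id, ← cancel_mono W.ι,
        Category.assoc, hW.isoSpec_inv_ι, W.fromSpecStalkOfMem_ι, ← hW.fromSpecStalk_eq_fromSpecStalk hξ]
      rfl
    rw [← Category.assoc, h1, ← Spec.map_comp, hdh]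
    exact Spec.map_preimage gam'
  refine ⟨w' ≫ U.ι, ?_, ?_⟩
  · haveI : IsReduced (W : Scheme.{u}) := isReduced_of_isOpenImmersion W.ι
    have hfac : Set.range (W.ι ≫ H.hom) ⊆ Set.range V.ι := by
      rintro _ ⟨y, rfl⟩
      rw [Scheme.Opens.range_ι, Scheme.Hom.comp_apply]
      exact hWV y.2
    have hVs : IsSeparated (terminal.from (V : Scheme.{u})) := by
      haveI : IsAffine (V : Scheme.{u}) := hV
      infer_instance
    have key : w' ≫ (T.hom ∣_ V) = IsOpenImmersion.lift V.ι (W.ι ≫ H.hom) hfac := by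
      refine eq_of_comp_eq W.ι (terminal.from (V : Scheme.{u})) (W.fromSpecStalkOfMem _ hξ) (W.fromSpecStalkOfMem_ι _ hξ) _ _
        (terminal.hom_ext _ _) ?_
      rw [reassoc_of% hgen, ← cancel_mono V.ι, Category.assoc, morphismRestrict_ι, IsOpenImmersion.lift_fac_assoc, hgam,
        Category.assoc, IsOpenImmersion.lift_fac, W.fromSpecStalkOfMem_ι_assoc]
    have := congrArg (· ≫ V.ι) key
    simpa [morphismRestrict_ι] using this
  · rw [reassoc_of% hgen, IsOpenImmersion.lift_fac]

end GrothLib.MultExt14
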