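import Groth.Agent.Lib.MultExt14.Main

/-!
# Extension of homomorphisms from the generic fibre
-/

set_option autoImplicit false
set_option backward.isDefEq.respectTransparency false
set_option linter.style.haveILetI false
universe u

open CategoryTheory CategoryTheory.Limits AlgebraicGeometry
open MonoidalCategory CartesianMonoidalCategory MonObj

noncomputable section

namespace GrothLib.MultExt14

variable {S : Scheme.{u}} [IsIntegral S]

theorem eq_of_generic {Y T : Over S} [Flat Y.hom] [IsReduced Y.left] [IsSeparated T.hom] {a b : Y ⟶ T}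
    (h : (Over.pullback (S.fromSpecResidueField (genericPoint S))).map a =
      (Over.pullback (S.fromSpecResidueField (genericPoint S))).map b) : a = b := by
  haveI : IsDominant (pullback.fst Y.hom (S.fromSpecResidueField (genericPoint S))) := ⟨by
    refine dense_iff_closure_eq.2 (Set.eq_univ_of_forall fun y => ?_)
    obtain ⟨y', hy', he⟩ := Flat.generalizingMap Y.hom ((genericPoint_spec S).specializes (Set.mem_univ (Y.hom y)) : genericPoint S ⤳ Y.hom y)
    refine closure_mono (Set.singleton_subset_iff.2 ?_) (specializes_iff_mem_closure.1 hy')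
    rw [Scheme.Pullback.range_fst, Scheme.range_fromSpecResidueField]
    exact he⟩
  refine Over.OverMorphism.ext (ext_of_isDominant_of_isSeparated T.hom ((Over.w a).trans (Over.w b).symm)
    (pullback.fst Y.hom (S.fromSpecResidueField (genericPoint S))) ?_)
  have := congrArg (fun f => f.left ≫ pullback.fst T.hom (S.fromSpecResidueField (genericPoint S))) h
  simpa using this

variable [IsLocallyNoetherian S]

/-- A homomorphism between the generic fibres extends. -/
theorem exists_extend_hom (hnorm : ∀ x : S, IsIntegrallyClosed (S.presheaf.stalk x)) (H T : Over S) [GrpObj H] [GrpObj T]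
    [Smooth H.hom] (hconn : ∀ s : S, ConnectedSpace ↥(pullback H.hom (S.fromSpecResidueField s)))
    (hT : SGA3x.IsMultTypeFT T)
    (uη : Red.bc (S.fromSpecResidueField (genericPoint S)) H ⟶ Red.bc (S.fromSpecResidueField (genericPoint S)) T)
    [IsMonHom uη] :
    ∃ u : H ⟶ T, IsMonHom u ∧ (Over.pullback (S.fromSpecResidueField (genericPoint S))).map u = uη := by
  let j := S.fromSpecStalk (genericPoint S)
  let j' := S.fromSpecResidueField (genericPoint S)
  haveI hres : IsIso (S.residue (genericPoint S)) := by
    have : Function.Bijective (S.residue (genericPoint S)).hom :=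
      ⟨(show S.functionField →+* S.residueField (genericPoint S) from (S.residue (genericPoint S)).hom).injective,
        S.residue_surjective (genericPoint S)⟩
    exact (ConcreteCategory.isIso_iff_bijective (S.residue (genericPoint S))).2 this
  let θ := Spec.map (S.residue (genericPoint S))
  have hθ : θ ≫ j = j' := rfl
  have hinv : inv θ ≫ j' = j := by rw [← hθ, IsIso.inv_hom_id_assoc]
  let L₁ : pullback H.hom j ⟶ pullback H.hom j' :=
    pullback.lift (pullback.fst _ _) (pullback.snd _ _ ≫ inv θ) (by rw [Category.assoc, hinv, pullback.condition])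
  let u := L₁ ≫ uη.left ≫ pullback.fst T.hom j'
  have hu : u ≫ T.hom = pullback.fst _ _ ≫ H.hom := by
    simp only [u, Category.assoc]
    rw [pullback.condition, ← Category.assoc uη.left, show uη.left ≫ pullback.snd T.hom j' = pullback.snd H.hom j' from Over.w uη,
      ← pullback.condition, ← Category.assoc, pullback.lift_fst]
  obtain ⟨w, hw, hwu⟩ := exists_extend hnorm H T hconn hT u hu (fun p hp => by
    have hsnd : p ≫ pullback.snd H.hom j = 𝟙 _ := by
      rw [← cancel_mono j, Category.assoc, ← pullback.condition, ← Category.assoc, hp, Category.assoc, Over.w η[H],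
        Category.id_comp]
      exact Category.comp_id _
    have hone : p ≫ L₁ = inv θ ≫ η[Red.bc j' H].left := by
      apply pullback.hom_ext
      · simp only [L₁, Category.assoc, pullback.lift_fst]
        rw [hp]
        simp [reassoc_of% hinv]
        rfl
      · simp only [L₁, Category.assoc, pullback.lift_snd]
        rw [reassoc_of% hsnd, show η[Red.bc j' H].left ≫ pullback.snd H.hom j' = 𝟙 _ from Over.w η[Red.bc j' H],
          ]
        exact (Category.comp_id _).symm
    show p ≫ L₁ ≫ uη.left ≫ pullback.fst T.hom j' = _
    rw [reassoc_of% hone, ← Over.comp_left_assoc, IsMonHom.one_hom]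
    simp [reassoc_of% hinv]
    erw [pullback.lift_fst]
    have hc : pullback.fst (𝟙 S) j' = pullback.snd (𝟙 S) j' ≫ θ ≫ j := by
      rw [hθ, ← pullback.condition]
      exact (Category.comp_id _).symm
    exact (congrArg (· ≫ η[T].left) hc).trans (by simp [j, Category.assoc]; rfl))
  let W : H ⟶ T := Over.homMk w hw
  have hW : (Over.pullback j').map W = uη := by
    apply Over.OverMorphism.ext
    apply pullback.hom_ext
    · show pullback.lift _ _ _ ≫ _ = _
      rw [pullback.lift_fst]
      let L₂ : pullback H.hom j' ⟶ pullback H.hom j :=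
        pullback.lift (pullback.fst _ _) (pullback.snd _ _ ≫ θ) (by rw [Category.assoc, hθ, pullback.condition])
      have hL : L₂ ≫ L₁ = 𝟙 _ := by
        apply pullback.hom_ext <;> simp [L₁, L₂]
      have := congrArg (L₂ ≫ ·) hwu
      simp only [u, reassoc_of% hL, L₂] at this
      erw [pullback.lift_fst_assoc] at this
      exact this
    · exact (Over.w ((Over.pullback j').map W)).trans (Over.w uη).symm
  haveI : IsAffineHom T.hom := EssFree.isAffineHom_multTypeFT T hT
  haveI hHH : Smooth (H ⊗ H).hom := by
    rw [Over.tensorObj_hom]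
    infer_instance
  haveI : IsReduced (H ⊗ H).left := RedSmooth.isReduced_of_smooth (H ⊗ H).hom
  haveI : IsReduced H.left := RedSmooth.isReduced_of_smooth H.hom
  haveI : Smooth (𝟙_ (Over S)).hom := inferInstanceAs (Smooth (𝟙 S))
  haveI : IsReduced (𝟙_ (Over S)).left := inferInstanceAs (IsReduced S)
  refine ⟨W, ⟨eq_of_generic ?_, eq_of_generic ?_⟩, hW⟩
  · rw [Functor.map_comp, hW]
    have h1 : (Over.pullback j').map η[H] = (Over.pullback j').map (1 : 𝟙_ (Over S) ⟶ H) := by
      rw [Hom.one_def, toUnit_unique (toUnit _) (𝟙 _), Category.id_comp]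
    have h2 : (Over.pullback j').map η[T] = (Over.pullback j').map (1 : 𝟙_ (Over S) ⟶ T) := by
      rw [Hom.one_def, toUnit_unique (toUnit _) (𝟙 _), Category.id_comp]
    rw [h1, h2, Functor.map_one, Functor.map_one, MonObj.one_comp]
  · have h1 : μ[H] = fst H H * snd H H := by rw [Hom.mul_def, lift_fst_snd, Category.id_comp]
    have h2 : (W ⊗ₘ W) ≫ μ[T] = (fst H H ≫ W) * (snd H H ≫ W) := by
      rw [Hom.mul_def, ← lift_map, lift_fst_snd, Category.id_comp]
    rw [h1, h2, Functor.map_comp, hW, Functor.map_mul, MonObj.mul_comp, Functor.map_mul, Functor.map_comp,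
      Functor.map_comp, hW]

end GrothLib.MultExt14
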