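import Groth.Agent.Lib.MultExt14.Global
import Groth.Agent.Lib.RedSmooth.Basic

/-!
# Homomorphisms to groups of multiplicative type extend from the generic fibre over normal bases
-/

set_option autoImplicit false
set_option backward.isDefEq.respectTransparency false
set_option linter.style.haveILetI false
universe u

open CategoryTheory CategoryTheory.Limits AlgebraicGeometry
open MonoidalCategory CartesianMonoidalCategory MonObj

noncomputable section

namespace GrothLib.MultExt14

variable {S : Scheme.{u}} [IsIntegral S]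

/-- A normal Noetherian local domain with a flat local map to a one dimensional domain is a DVR. -/
theorem isDiscreteValuationRing_of_flat {R L : Type u} [CommRing R] [IsDomain R] [IsLocalRing R] [IsNoetherianRing R]
    [IsIntegrallyClosed R] [CommRing L] [IsDomain L] [IsLocalRing L] [Ring.KrullDimLE 1 L] [Algebra R L]
    [Module.Flat R L] [IsLocalHom (algebraMap R L)] (h : ¬ IsField R) : IsDiscreteValuationRing R := by
  haveI : Module.FaithfullyFlat R L := Module.FaithfullyFlat.of_flat_of_isLocalHom
  have hinj : Function.Injective (algebraMap R L) := FaithfulSMul.algebraMap_injective R L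
  haveI : Ring.DimensionLEOne R := ⟨fun {q} hq hqp => by
    haveI := hqp
    have hlh : (IsLocalRing.maximalIdeal L).comap (algebraMap R L) = IsLocalRing.maximalIdeal R :=
      ((IsLocalRing.local_hom_TFAE (algebraMap R L)).out 0 4).mp ‹IsLocalHom (algebraMap R L)›
    haveI : (IsLocalRing.maximalIdeal L).LiesOver (IsLocalRing.maximalIdeal R) := ⟨hlh.symm⟩
    obtain ⟨Q, hQle, hQ, hQover⟩ := Ideal.exists_ideal_le_liesOver_of_le (q := IsLocalRing.maximalIdeal R)
      (IsLocalRing.maximalIdeal L) (IsLocalRing.le_maximalIdeal hqp.ne_top)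
    haveI := hQ
    have hne : Q ≠ ⊥ := by
      rintro rfl
      exact hq (hQover.over.trans ((RingHom.ker_eq_bot_iff_eq_zero _).2 fun x hx => hinj (hx.trans (map_zero _).symm)))
    have hmax : Q = IsLocalRing.maximalIdeal L :=
      IsLocalRing.eq_maximalIdeal ((Ring.krullDimLE_one_iff_of_isPrime_bot).1 inferInstance Q hne hQ)
    have : q = IsLocalRing.maximalIdeal R := by
      rw [hQover.over, hmax]
      exact hlh
    exact this ▸ IsLocalRing.maximalIdeal.isMaximal R⟩
  haveI : IsDedekindDomain R := { }
  exact ((IsDiscreteValuationRing.TFAE R h).out 0 2).mpr (‹IsDedekindDomain R› : IsDedekindDomain R)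

theorem eq_genericPoint_of_isField {s : S} (h : IsField (S.presheaf.stalk s)) : s = genericPoint S := by
  obtain ⟨y, hy⟩ := (Scheme.range_fromSpecStalk (X := S) (x := s)).ge
    ((genericPoint_spec S).specializes (Set.mem_univ s) : genericPoint S ⤳ s)
  letI := h.toField
  rw [← hy, Subsingleton.elim (α := PrimeSpectrum (S.presheaf.stalk s)) y (IsLocalRing.closedPoint _),
    Scheme.fromSpecStalk_closedPoint]

variable [IsLocallyNoetherian S]

/-- **Extension of generic homomorphisms.** Over a normal base, a morphism from the generic fibre of a smooth group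
with connected fibres to a group of multiplicative type preserving units extends. -/
theorem exists_extend (hnorm : ∀ x : S, IsIntegrallyClosed (S.presheaf.stalk x)) (H T : Over S) [GrpObj H] [GrpObj T]
    [Smooth H.hom] (hconn : ∀ s : S, ConnectedSpace ↥(pullback H.hom (S.fromSpecResidueField s)))
    (hT : SGA3x.IsMultTypeFT T) (u : pullback H.hom (S.fromSpecStalk (genericPoint S)) ⟶ T.left)
    (hu : u ≫ T.hom = pullback.fst _ _ ≫ H.hom)
    (hu1 : ∀ p : Spec S.functionField ⟶ pullback H.hom (S.fromSpecStalk (genericPoint S)),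
      p ≫ pullback.fst _ _ = S.fromSpecStalk (genericPoint S) ≫ η[H].left →
      p ≫ u = S.fromSpecStalk (genericPoint S) ≫ η[T].left) :
    ∃ w : H.left ⟶ T.left, w ≫ T.hom = H.hom ∧ pullback.fst H.hom (S.fromSpecStalk (genericPoint S)) ≫ w = u := by
  haveI := isIntegral_of_connected_fibres H hconn
  haveI : IsLocallyNoetherian H.left := LocallyOfFiniteType.isLocallyNoetherian H.hom
  haveI : IsAffineHom T.hom := EssFree.isAffineHom_multTypeFT T hT
  haveI : Mono (pullback.fst H.hom (S.fromSpecStalk (genericPoint S))) := mono_fst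
  let ξ := genericPoint H.left
  have hsec : ∀ s, H.hom (η[H].left s) = s := fun s => by
    rw [← Scheme.Hom.comp_apply, Over.w η[H]]
    rfl
  have hspec : ∀ x, x ⤳ genericPoint S → x = genericPoint S := fun x hx =>
    (hx.antisymm ((genericPoint_spec S).specializes (Set.mem_univ x))).eq
  have hξ : H.hom ξ = genericPoint S := hspec _ (by
    rw [← hsec (genericPoint S)]
    exact ((genericPoint_spec H.left).specializes (Set.mem_univ _)).map H.hom.continuous)
  -- lifting local rings to the generic fibre
  have liftη : ∀ x : H.left, H.hom x = genericPoint S → ∃ g : Spec (H.left.presheaf.stalk x) ⟶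
      pullback H.hom (S.fromSpecStalk (genericPoint S)), g ≫ pullback.fst _ _ = H.left.fromSpecStalk x := by
    intro x hx
    refine ⟨pullback.lift (H.left.fromSpecStalk x)
      (Spec.map (S.presheaf.stalkSpecializes (specializes_of_eq hx) ≫ H.hom.stalkMap x)) ?_, pullback.lift_fst _ _ _⟩
    rw [Spec.map_comp, Category.assoc, Scheme.SpecMap_stalkSpecializes_fromSpecStalk,
      Scheme.SpecMap_stalkMap_fromSpecStalk]
  obtain ⟨gp, hgp⟩ := liftη ξ hξ
  let gam : Spec H.left.functionField ⟶ T.left := gp ≫ u
  have hgam : gam ≫ T.hom = H.left.fromSpecStalk (genericPoint H.left) ≫ H.hom := by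
    show (gp ≫ u) ≫ T.hom = _
    rw [Category.assoc, hu, reassoc_of% hgp]
  have goodη : ∀ x : H.left, H.hom x = genericPoint S → Good gam x := fun x hx => by
    obtain ⟨g, hg⟩ := liftη x hx
    refine ⟨g ≫ u, by rw [Category.assoc, hu, reassoc_of% hg], ?_⟩
    rw [← Category.assoc, show Spec.map (H.left.presheaf.stalkSpecializes ((genericPoint_spec H.left).specializes (Set.mem_univ x))) ≫ g = gp from (cancel_mono (pullback.fst _ _)).1 (by rw [Category.assoc, hg, hgp, Scheme.SpecMap_stalkSpecializes_fromSpecStalk])]
  -- good along the unit section in codimension one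
  have goodsec : ∀ z : H.left, η[H].left (H.hom z) = z → IsDiscreteValuationRing (S.presheaf.stalk (H.hom z)) →
      Good gam z := by
    intro z hz hdvr
    haveI := hdvr
    let e : H.left.presheaf.stalk z ⟶ S.presheaf.stalk (H.hom z) :=
      H.left.presheaf.stalkSpecializes (specializes_of_eq hz) ≫ η[H].left.stalkMap (H.hom z)
    have hee : Spec.map e ≫ H.left.fromSpecStalk z = S.fromSpecStalk (H.hom z) ≫ η[H].left := by
      rw [Spec.map_comp, Category.assoc, Scheme.SpecMap_stalkSpecializes_fromSpecStalk,
        Scheme.SpecMap_stalkMap_fromSpecStalk]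
      rfl
    have he : H.hom.stalkMap z ≫ e = 𝟙 _ := by
      apply Spec.map_injective
      rw [← cancel_mono (S.fromSpecStalk (H.hom z)), Spec.map_comp, Category.assoc,
        Scheme.SpecMap_stalkMap_fromSpecStalk, reassoc_of% hee, Over.w η[H], Spec.map_id, Category.id_comp]
      exact Category.comp_id _
    obtain ⟨π, hπ⟩ := IsDiscreteValuationRing.exists_irreducible (S.presheaf.stalk (H.hom z))
    obtain ⟨φ, hφ1, p₀, hp₀, hφ2⟩ := exists_factor_stalk T H hT z e he hπ u hu (fun p hp => hu1 p (by
      rw [hp, hee, Scheme.SpecMap_stalkSpecializes_fromSpecStalk_assoc]))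
    letI : Algebra (S.presheaf.stalk (H.hom z)) (H.left.presheaf.stalk z) := (H.hom.stalkMap z).hom.toAlgebra
    let x := algebraMap (S.presheaf.stalk (H.hom z)) (H.left.presheaf.stalk z) π
    let sp := H.left.presheaf.stalkSpecializes ((genericPoint_spec H.left).specializes (Set.mem_univ z))
    have hx : IsUnit (sp.hom x) := IsUnit.mk0 _ fun h => hπ.ne_zero (by
      have h1 : x = 0 := (map_eq_zero_iff _ (IsFractionRing.injective (H.left.presheaf.stalk z) H.left.functionField)).1 h
      simpa [x, RingHom.algebraMap_toAlgebra] using (DFunLike.congr_fun (congrArg CommRingCat.Hom.hom he) π).symm.trans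
        (congrArg e.hom h1))
    let g : Localization.Away x →+* H.left.functionField := IsLocalization.Away.lift x hx
    have hg : CommRingCat.ofHom (algebraMap (H.left.presheaf.stalk z) (Localization.Away x)) ≫ CommRingCat.ofHom g = sp :=
      CommRingCat.hom_ext (IsLocalization.Away.lift_comp x hx)
    refine ⟨φ, hφ1, ?_⟩
    show Spec.map sp ≫ φ = gp ≫ u
    rw [← hg, Spec.map_comp, Category.assoc, hφ2, ← Category.assoc]
    congr 1
    apply (cancel_mono (pullback.fst H.hom (S.fromSpecStalk (genericPoint S)))).1
    rw [Category.assoc, hp₀, hgp, ← Category.assoc, ← Spec.map_comp, hg]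
    exact Scheme.SpecMap_stalkSpecializes_fromSpecStalk _
  -- normality of `H`
  haveI hHn : ∀ x : H.left, IsIntegrallyClosed (H.left.presheaf.stalk x) := fun x => by
    haveI := hnorm (H.hom x)
    exact (UnrMono.isNormal_stalk_of_smooth H.hom x).2
  have good1 : ∀ x : H.left, ringKrullDim (H.left.presheaf.stalk x) = 1 → Good gam x := by
    intro x hx
    rcases eq_or_ne (H.hom x) (genericPoint S) with h | h
    · exact goodη x h
    let R : Type u := S.presheaf.stalk (H.hom x)
    let L : Type u := H.left.presheaf.stalk x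
    letI : Algebra R L := (H.hom.stalkMap x).hom.toAlgebra
    haveI : Module.Flat R L := Flat.stalkMap H.hom x
    haveI : IsLocalHom (algebraMap R L) := inferInstanceAs (IsLocalHom (H.hom.stalkMap x).hom)
    haveI : IsIntegrallyClosed R := hnorm _
    haveI : Ring.KrullDimLE 1 L := (Ring.krullDimLE_iff).2 hx.le
    have hdvr : IsDiscreteValuationRing R :=
      isDiscreteValuationRing_of_flat (R := R) (L := L) fun hf => h (eq_genericPoint_of_isField hf)
    have hmax : ∀ y : H.left, y ⤳ x → H.hom y = H.hom x → y = x := by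
      intro y hy hyx
      obtain ⟨q, rfl⟩ := (Scheme.range_fromSpecStalk (X := H.left) (x := x)).ge hy
      by_cases hq : q.asIdeal = ⊥
      · exfalso
        apply h
        obtain ⟨q₀, hq₀⟩ := (Scheme.range_fromSpecStalk (X := H.left) (x := x)).ge
          ((genericPoint_spec H.left).specializes (Set.mem_univ x) : genericPoint H.left ⤳ x)
        have hspq : q ⤳ q₀ := (PrimeSpectrum.le_iff_specializes q q₀).1
          (by show q.asIdeal ≤ q₀.asIdeal; rw [hq]; exact bot_le)
        have h1 : H.hom (H.left.fromSpecStalk x q) ⤳ H.hom ξ := by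
          have := (hspq.map (H.left.fromSpecStalk x).continuous).map H.hom.continuous
          rwa [hq₀] at this
        rw [hξ, hyx] at h1
        exact hspec _ h1
      · have : q = IsLocalRing.closedPoint (H.left.presheaf.stalk x) := PrimeSpectrum.ext
          (IsLocalRing.eq_maximalIdeal ((Ring.krullDimLE_one_iff_of_isPrime_bot).1 ‹Ring.KrullDimLE 1 L› q.asIdeal hq q.2))
        rw [this, Scheme.fromSpecStalk_closedPoint]
    have hs : x ⤳ η[H].left (H.hom x) := by
      obtain ⟨g, hg⟩ := QuasiSober.sober (isIrreducible_fibre H hconn (H.hom x)).closure isClosed_closure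
      have hgm : g ⤳ x := hg.specializes (subset_closure rfl)
      have hge : g ⤳ η[H].left (H.hom x) := hg.specializes (subset_closure (hsec _))
      have hgs : H.hom g = H.hom x := by
        refine ((hgm.map H.hom.continuous).antisymm ?_).eq
        have : H.hom g ∈ closure ({H.hom x} : Set S) :=
          (closure_mono (Set.image_preimage_subset H.hom _)) (image_closure_subset_closure_image H.hom.continuous
            ⟨g, hg.mem, rfl⟩)
        exact specializes_iff_mem_closure.2 this
      exact hmax g hgm hgs ▸ hge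
    refine Good.generize hs (goodsec _ (by rw [hsec]) ?_)
    rw [hsec]
    exact hdvr
  -- local extensions
  have hloc : ∀ x : H.left, ∃ W : H.left.Opens, x ∈ W ∧ ∃ hξW : genericPoint H.left ∈ W,
      ∃ w : (W : Scheme.{u}) ⟶ T.left, w ≫ T.hom = W.ι ≫ H.hom ∧
        W.fromSpecStalkOfMem (genericPoint H.left) hξW ≫ w = gam := by
    intro x
    obtain ⟨_, ⟨V, hV, rfl⟩, hxV, -⟩ := S.isBasis_affineOpens.exists_subset_of_mem_open (Set.mem_univ (H.hom x)) isOpen_univ
    obtain ⟨_, ⟨W, hW, rfl⟩, hxW, hWV⟩ := H.left.isBasis_affineOpens.exists_subset_of_mem_open hxV (H.hom ⁻¹ᵁ V).2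
    haveI : Nonempty W := ⟨⟨x, hxW⟩⟩
    haveI : IsNoetherianRing Γ(H.left, W) := IsLocallyNoetherian.component_noetherian ⟨W, hW⟩
    haveI : IsIntegrallyClosed Γ(H.left, W) := IsIntegrallyClosed.of_localization_maximal fun P _ hP => by
      let y : W := ⟨hW.fromSpec ⟨P, hP.isPrime⟩, hW.range_fromSpec.le ⟨_, rfl⟩⟩
      have hy : hW.primeIdealOf y = ⟨P, hP.isPrime⟩ := hW.fromSpec.isOpenEmbedding.injective (hW.fromSpec_primeIdealOf y)
      letI := TopCat.Presheaf.algebra_section_stalk H.left.presheaf y
      haveI : IsLocalization.AtPrime (H.left.presheaf.stalk y.1) P := by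
        have h := hW.isLocalization_stalk y
        rwa [hy] at h
      exact IsIntegrallyClosed.of_equiv (IsLocalization.algEquiv P.primeCompl (H.left.presheaf.stalk y.1) (Localization.AtPrime P)).toRingEquiv
    obtain ⟨w, h1, h2⟩ := exists_extend_affine gam hgam hW hV hWV (fun y hy => good1 y (by
      letI := TopCat.Presheaf.algebra_section_stalk H.left.presheaf y
      haveI := hW.isLocalization_stalk y
      rw [IsLocalization.AtPrime.ringKrullDim_eq_height (hW.primeIdealOf y).asIdeal (H.left.presheaf.stalk y.1), hy]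
      rfl))
    exact ⟨W, hxW, _, w, h1, h2⟩
  choose W hxW hξW w hw1 hw2 using hloc
  have hcov : TopologicalSpace.IsOpenCover W :=
    eq_top_iff.2 fun x _ => TopologicalSpace.Opens.mem_iSup.2 ⟨x, hxW x⟩
  let 𝒰 := H.left.openCoverOfIsOpenCover W hcov
  have hglue : ∀ i j, pullback.fst (𝒰.f i) (𝒰.f j) ≫ w i = pullback.snd (𝒰.f i) (𝒰.f j) ≫ w j := by
    intro i j
    change pullback.fst (W i).ι (W j).ι ≫ w i = pullback.snd (W i).ι (W j).ι ≫ w j
    refine eq_of_comp_eq (pullback.fst (W i).ι (W j).ι ≫ (W i).ι) T.hom
      (pullback.lift ((W i).fromSpecStalkOfMem _ (hξW i)) ((W j).fromSpecStalkOfMem _ (hξW j)) (by simp))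
      (by simp) _ _ ?_ ?_
    · rw [Category.assoc, hw1, Category.assoc, hw1, ← Category.assoc, ← Category.assoc, pullback.condition]
    · rw [pullback.lift_fst_assoc, pullback.lift_snd_assoc, hw2, hw2]
  let wg := 𝒰.glueMorphisms w hglue
  have hwg : ∀ i, (W i).ι ≫ wg = w i := fun i => 𝒰.ι_glueMorphisms w hglue i
  refine ⟨wg, 𝒰.hom_ext _ _ fun i => ?_, ?_⟩
  · show (W i).ι ≫ _ = (W i).ι ≫ _
    rw [reassoc_of% (hwg i), hw1]
  · haveI : IsReduced (pullback H.hom (S.fromSpecStalk (genericPoint S))) :=
      haveI : IsReduced (Spec (S.presheaf.stalk (genericPoint S))) := inferInstanceAs (IsReduced (Spec S.functionField))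
      RedSmooth.isReduced_of_smooth (pullback.snd H.hom (S.fromSpecStalk (genericPoint S)))
    haveI : IsDominant gp := ⟨by
      refine dense_iff_closure_eq.2 (Set.eq_univ_of_forall fun y => ?_)
      have hemb := (pullback.fst H.hom (S.fromSpecStalk (genericPoint S))).isEmbedding
      suffices h : gp (IsLocalRing.closedPoint H.left.functionField) ⤳ y from
        closure_mono (Set.singleton_subset_iff.2 (Set.mem_range_self _)) (specializes_iff_mem_closure.1 h)
      refine (hemb.toIsInducing.specializes_iff).1 ?_
      rw [← Scheme.Hom.comp_apply, hgp, Scheme.fromSpecStalk_closedPoint]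
      exact (genericPoint_spec H.left).specializes (Set.mem_univ _)⟩
    refine ext_of_isDominant_of_isSeparated T.hom ?_ gp ?_
    · rw [Category.assoc, hu]
      congr 1
      refine 𝒰.hom_ext _ _ fun i => ?_
      show (W i).ι ≫ _ = (W i).ι ≫ _
      rw [reassoc_of% (hwg i), hw1]
    · rw [reassoc_of% hgp, ← (W (genericPoint H.left)).fromSpecStalkOfMem_ι _ (hξW _), Category.assoc, hwg, hw2]

end GrothLib.MultExt14
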