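import Groth.Agent.Lib.MultExt14.Core
import Groth.Agent.Lib.MultHopf14.Frames
import Groth.Agent.Lib.SmoothDiv6.Main
import Groth.Agent.Lib.DiagGrp.BaseChange
import Groth.Agent.Lib.EssFree.Transporter
import Groth.Prelude

/-!
# Extension of generic homomorphisms to multiplicative groups over discrete valuation rings
-/

set_option autoImplicit false
set_option backward.isDefEq.respectTransparency false
set_option linter.style.haveILetI false
universe u

open CategoryTheory CategoryTheory.Limits AlgebraicGeometry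
open MonoidalCategory CartesianMonoidalCategory MonObj

noncomputable section

namespace GrothLib.MultExt14

variable {S : Scheme.{u}} [IsIntegral S]

theorem one_left_fst {S' : Scheme.{u}} (g : S' ⟶ S) (T : Over S) [GrpObj T] (Y : Over S') :
    (1 : Y ⟶ Red.bc g T).left ≫ pullback.fst T.hom g = Y.hom ≫ g ≫ η[T].left := by
  rw [Hom.one_def]
  simp

theorem hasChartsFpqc_congr {Q : ∀ (M : Type), AddCommGroup M → Prop} {S' : Scheme.{u}} {G G' : Over S'}
    [GrpObj G] [GrpObj G'] (hG : DiagGrp.HasChartsFpqc Q G) (e : Grp.mk G' ≅ Grp.mk G) :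
    DiagGrp.HasChartsFpqc Q G' := by
  obtain ⟨W, π, h1, h2, h3, h4⟩ := hG
  refine ⟨W, π, h1, h2, h3, fun w => ?_⟩
  obtain ⟨U, hU, M, inst, hM, ⟨eM⟩⟩ := h4 w
  exact ⟨U, hU, M, inst, hM, ⟨((Over.pullback (U.ι ≫ π)).mapGrp.mapIso e).trans eM⟩⟩

theorem mono_fst {H : Over S} : Mono (pullback.fst H.hom (S.fromSpecStalk (genericPoint S))) := inferInstance

/-- **Extension along a section over a discrete valuation ring.** A generic point of a group of multiplicative
type which is neutral along a section extends to the local ring at the closed point of the section. -/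
theorem exists_factor_stalk (T H : Over S) [GrpObj T] (hT : SGA3x.IsMultTypeFT T) [Smooth H.hom] (z : H.left)
    [IsDiscreteValuationRing (S.presheaf.stalk (H.hom z))]
    (e : H.left.presheaf.stalk z ⟶ S.presheaf.stalk (H.hom z)) (he : H.hom.stalkMap z ≫ e = 𝟙 _)
    {π : S.presheaf.stalk (H.hom z)} (hπ : Irreducible π)
    (u : pullback H.hom (S.fromSpecStalk (genericPoint S)) ⟶ T.left)
    (hu : u ≫ T.hom = pullback.fst _ _ ≫ H.hom)
    (hu1 : ∀ p : Spec S.functionField ⟶ pullback H.hom (S.fromSpecStalk (genericPoint S)),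
      p ≫ pullback.fst _ _ = Spec.map (S.presheaf.stalkSpecializes
          ((genericPoint_spec S).specializes (Set.mem_univ (H.hom z)))) ≫ Spec.map e ≫ H.left.fromSpecStalk z →
      p ≫ u = S.fromSpecStalk (genericPoint S) ≫ η[T].left) :
    letI : Algebra (S.presheaf.stalk (H.hom z)) (H.left.presheaf.stalk z) := (H.hom.stalkMap z).hom.toAlgebra
    ∃ φ : Spec (H.left.presheaf.stalk z) ⟶ T.left, φ ≫ T.hom = H.left.fromSpecStalk z ≫ H.hom ∧
      ∃ (p : Spec (CommRingCat.of (Localization.Away (algebraMap (S.presheaf.stalk (H.hom z)) (H.left.presheaf.stalk z) π))) ⟶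
          pullback H.hom (S.fromSpecStalk (genericPoint S))),
        p ≫ pullback.fst _ _ = Spec.map (CommRingCat.ofHom (algebraMap (H.left.presheaf.stalk z)
          (Localization.Away (algebraMap (S.presheaf.stalk (H.hom z)) (H.left.presheaf.stalk z) π)))) ≫
            H.left.fromSpecStalk z ∧
        Spec.map (CommRingCat.ofHom (algebraMap (H.left.presheaf.stalk z)
          (Localization.Away (algebraMap (S.presheaf.stalk (H.hom z)) (H.left.presheaf.stalk z) π)))) ≫ φ = p ≫ u := by
  let R : Type u := S.presheaf.stalk (H.hom z)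
  let L : Type u := H.left.presheaf.stalk z
  let K : Type u := S.functionField
  letI : Algebra R L := (H.hom.stalkMap z).hom.toAlgebra
  haveI : IsDiscreteValuationRing R := ‹_›
  obtain ⟨hFS, hEF⟩ := SmoothDiv6.stalkMap_formallySmooth H.hom z ⊤ trivial inferInstance
  haveI : Algebra.FormallySmooth R L := hFS
  haveI : Algebra.EssFiniteType R L := hEF
  haveI : Module.Flat R L := Flat.stalkMap H.hom z
  let eA : L →ₐ[R] R := { e.hom with commutes' := fun r => DFunLike.congr_fun (congrArg CommRingCat.Hom.hom he) r }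
  let g : Spec (CommRingCat.of R) ⟶ S := S.fromSpecStalk (H.hom z)
  -- the Hopf algebra
  let T₀ := Red.bc g T
  have hch := (DiagGrp.hasChartsFpqc_of_isMultTypeFT hT).baseChange g
  haveI hlfp : LocallyOfFinitePresentation T.hom := DiagGrp.lfp_of_isMultTypeFT hT
  haveI hTaff : IsAffineHom T.hom := EssFree.isAffineHom_multTypeFT T hT
  haveI : IsAffineHom T₀.hom := inferInstanceAs (IsAffineHom (pullback.snd T.hom g))
  obtain ⟨A, _, _, ⟨ε⟩⟩ := MultHopf14.exists_hopf T₀ inferInstance
  haveI : IsMonHom ε.hom.hom.hom := ε.hom.hom.isMonHom_hom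
  haveI : IsMonHom ε.inv.hom.hom := ε.inv.hom.isMonHom_hom
  haveI hAfp : Algebra.FinitePresentation R A := by
    haveI : IsIso ε.hom.hom.hom.left := inferInstanceAs (IsIso ((Over.forget _).mapIso ((Grp.forget _).mapIso ε)).hom)
    haveI : LocallyOfFinitePresentation T₀.hom := inferInstanceAs (LocallyOfFinitePresentation (pullback.snd T.hom g))
    have h : LocallyOfFinitePresentation (MultHopf14.specGrp (R := R) A).hom := by
      rw [← Over.w ε.hom.hom.hom]
      infer_instance
    change LocallyOfFinitePresentation (Spec.map (CommRingCat.ofHom (algebraMap R A))) at h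
    rwa [HasRingHomProperty.Spec_iff (P := @LocallyOfFinitePresentation), CommRingCat.hom_ofHom,
      RingHom.finitePresentation_algebraMap] at h
  haveI : Algebra.FiniteType R A := inferInstance
  have hA : SGA3b.IsMultType R A := MultHopf14.isMultType_of_charts (hasChartsFpqc_congr hch ε)
  -- the generic point
  let x : L := algebraMap R L π
  let P := Localization.Away x
  letI : Algebra R K := inferInstanceAs (Algebra (S.presheaf.stalk (H.hom z)) S.functionField)
  haveI : IsFractionRing R K := inferInstanceAs (IsFractionRing (S.presheaf.stalk (H.hom z)) S.functionField)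
  have hunit : ∀ r : nonZeroDivisors R, IsUnit (algebraMap R P r) := fun r => by
    obtain ⟨n, v, hv⟩ := IsDiscreteValuationRing.eq_unit_mul_pow_irreducible (nonZeroDivisors.ne_zero r.2) hπ
    rw [hv, map_mul, map_pow, IsScalarTower.algebraMap_apply R L P π]
    exact ((Units.isUnit _).map _).mul ((IsLocalization.Away.algebraMap_isUnit (S := P) x).pow _)
  let ξ : K →+* P := IsLocalization.lift (M := nonZeroDivisors R) hunit
  let toH : Spec (CommRingCat.of P) ⟶ H.left :=
    Spec.map (CommRingCat.ofHom (algebraMap L P)) ≫ H.left.fromSpecStalk z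
  have hstr : toH ≫ H.hom = Spec.map (CommRingCat.ofHom (algebraMap R P)) ≫ g := by
    rw [show CommRingCat.ofHom (algebraMap R P) = H.hom.stalkMap z ≫ CommRingCat.ofHom (algebraMap L P) from
      CommRingCat.hom_ext (IsScalarTower.algebraMap_eq R L P), Spec.map_comp, Category.assoc, Category.assoc,
      Scheme.SpecMap_stalkMap_fromSpecStalk]
  have hcomp0 : ξ.comp (algebraMap R K) = algebraMap R P := IsLocalization.lift_comp hunit
  have hξ : toH ≫ H.hom = Spec.map (CommRingCat.ofHom ξ) ≫ S.fromSpecStalk (genericPoint S) := by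
    have h1 := Scheme.SpecMap_stalkSpecializes_fromSpecStalk
      ((genericPoint_spec S).specializes (Set.mem_univ (H.hom z)))
    rw [hstr, ← hcomp0, CommRingCat.ofHom_comp, Spec.map_comp, Category.assoc]
    exact congrArg (Spec.map (CommRingCat.ofHom ξ) ≫ ·) h1
  let p₀ := pullback.lift toH (Spec.map (CommRingCat.ofHom ξ)) hξ
  have hp₀ : (p₀ ≫ u) ≫ T.hom = Spec.map (CommRingCat.ofHom (algebraMap R P)) ≫ g := by
    rw [Category.assoc, hu, pullback.lift_fst_assoc, hstr]
  let pt : (Spec (CommRingCat.of P)).asOver (Spec (CommRingCat.of R)) ⟶ T₀ :=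
    Over.homMk (pullback.lift (p₀ ≫ u) (Spec.map (CommRingCat.ofHom (algebraMap R P))) hp₀) (pullback.lift_snd _ _ _)
  let ψ : A →ₐ[R] P := (Spec.mapMulEquiv.symm (pt ≫ ε.inv.hom.hom)).ofConv
  have hψpt : Spec.mapMulEquiv (WithConv.toConv ψ) = pt ≫ ε.inv.hom.hom := by
    simp only [ψ, WithConv.toConv_ofConv, MulEquiv.apply_symm_apply]
  -- neutrality along the section
  have hxK : IsUnit (algebraMap R K (eA x)) := by
    rw [show eA x = π from eA.commutes π]
    exact IsUnit.mk0 _ fun h => hπ.ne_zero ((IsFractionRing.injective R K) (h.trans (map_zero _).symm))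
  let eP : P →ₐ[R] K := IsLocalization.Away.liftAlgHom x (f := (Algebra.ofId R K).comp eA) hxK
  have heP : ∀ b : L, eP (algebraMap L P b) = algebraMap R K (eA b) := fun b => by
    simp only [eP, IsLocalization.Away.liftAlgHom_apply, IsLocalization.Away.lift_eq]
    rfl
  let f : (Spec (CommRingCat.of K)).asOver (Spec (CommRingCat.of R)) ⟶ (Spec (CommRingCat.of P)).asOver (Spec (CommRingCat.of R)) :=
    Over.homMk (Spec.map (CommRingCat.ofHom eP.toRingHom)) (by
      show Spec.map _ ≫ Spec.map _ = Spec.map _
      rw [← Spec.map_comp]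
      congr 1
      exact CommRingCat.hom_ext (RingHom.ext fun r => eP.commutes r))
  have hfK : Spec.map (CommRingCat.ofHom eP.toRingHom) ≫ toH =
      Spec.map (S.presheaf.stalkSpecializes ((genericPoint_spec S).specializes (Set.mem_univ (H.hom z)))) ≫
        Spec.map e ≫ H.left.fromSpecStalk z := by
    rw [← Spec.map_comp_assoc, ← Spec.map_comp_assoc]
    congr 2
    exact CommRingCat.hom_ext (RingHom.ext heP)
  have hf1 : f ≫ pt = 1 := by
    apply Over.OverMorphism.ext
    apply pullback.hom_ext
    · rw [one_left_fst, Over.comp_left, Category.assoc, show pt.left ≫ pullback.fst T.hom g = p₀ ≫ u from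
        pullback.lift_fst _ _ _, ← Category.assoc, hu1 (f.left ≫ p₀)
          (by rw [Category.assoc, pullback.lift_fst]; exact hfK), ← Category.assoc]
      congr 1
      exact (Scheme.SpecMap_stalkSpecializes_fromSpecStalk ((genericPoint_spec S).specializes (Set.mem_univ (H.hom z)))).symm
    · exact (Over.w (f ≫ pt)).trans (Over.w (1 : (Spec (CommRingCat.of K)).asOver (Spec (CommRingCat.of R)) ⟶ T₀)).symm
  have hcomp : Spec.mapMulEquiv (WithConv.toConv (eP.comp ψ)) = f ≫ Spec.mapMulEquiv (WithConv.toConv ψ) := by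
    apply Over.OverMorphism.ext
    show Spec.map (CommRingCat.ofHom ((eP.comp ψ).toRingHom)) =
      Spec.map (CommRingCat.ofHom eP.toRingHom) ≫ Spec.map (CommRingCat.ofHom ψ.toRingHom)
    rw [← Spec.map_comp]
    rfl
  have hneutral : ∀ a : A, eP (ψ a) = algebraMap R K (Coalgebra.counit (R := R) a) := by
    have h1 : WithConv.toConv (eP.comp ψ) = 1 := Spec.mapMulEquiv.injective (by
      rw [hcomp, hψpt, map_one, reassoc_of% hf1, MonObj.one_comp])
    intro a
    have := DFunLike.congr_fun (congrArg WithConv.ofConv h1) a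
    simpa using this
  have hrange : ∀ a, ψ a ∈ (algebraMap L P).range := fun a =>
    mem_range_of_counit hA eA hπ ψ (fun a b k hb => IsFractionRing.injective R K (by
      have h := congrArg eP hb
      rw [map_mul, map_pow, heP, heP, hneutral] at h
      rw [map_mul, map_pow, ← h, show eA (algebraMap R L π) = π from eA.commutes π, mul_comm])) a
  have hinj : Function.Injective (algebraMap L P) :=
    IsLocalization.injective (M := Submonoid.powers x) P (by
      rintro _ ⟨n, rfl⟩
      have h := Module.Flat.isSMulRegular_of_isRegular (M := L) (R := R) (isRegular_of_ne_zero (pow_ne_zero n hπ.ne_zero))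
      refine mem_nonZeroDivisors_iff_right.2 fun w hw => h ?_
      simp only [Algebra.smul_def, map_pow, smul_zero]
      rw [mul_comm]
      simpa [x] using hw)
  choose φ₀ hφ₀ using hrange
  let φA : A →ₐ[R] L := AlgHom.mk'
    { toFun := φ₀
      map_one' := hinj (by rw [hφ₀, map_one, map_one])
      map_mul' := fun a b => hinj (by rw [hφ₀, map_mul, map_mul, hφ₀, hφ₀])
      map_zero' := hinj (by rw [hφ₀, map_zero, map_zero])
      map_add' := fun a b => hinj (by rw [hφ₀, map_add, map_add, hφ₀, hφ₀]) }
    fun r a => hinj (by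
      show algebraMap L P (φ₀ (r • a)) = algebraMap L P (r • φ₀ a)
      rw [hφ₀, map_smul, Algebra.smul_def, Algebra.smul_def, map_mul, hφ₀,
        ← IsScalarTower.algebraMap_apply R L P])
  refine ⟨(Spec.mapMulEquiv (WithConv.toConv φA) ≫ ε.hom.hom.hom).left ≫ pullback.fst T.hom g, ?_, p₀, pullback.lift_fst _ _ _, ?_⟩
  · rw [Category.assoc, pullback.condition, ← Category.assoc]
    exact (congrArg (· ≫ g) (Over.w (Spec.mapMulEquiv (WithConv.toConv φA) ≫ ε.hom.hom.hom))).trans
      (Scheme.SpecMap_stalkMap_fromSpecStalk H.hom)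
  · rw [← show pt.left ≫ pullback.fst T.hom g = p₀ ≫ u from pullback.lift_fst _ _ _,
      show pt = (pt ≫ ε.inv.hom.hom) ≫ ε.hom.hom.hom by
        rw [Category.assoc, ← Grp.comp_hom_hom, ε.inv_hom_id]; simp,
      ← hψpt, ← Category.assoc]
    refine congrArg (· ≫ pullback.fst T.hom g) ?_
    have h1 : Spec.map (CommRingCat.ofHom (algebraMap L P)) ≫ Spec.map (CommRingCat.ofHom φA.toRingHom) =
        Spec.map (CommRingCat.ofHom ψ.toRingHom) := by
      rw [← Spec.map_comp]
      congr 1
      exact CommRingCat.hom_ext (RingHom.ext hφ₀)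
    exact (Category.assoc _ _ _).symm.trans (congrArg (· ≫ ε.hom.hom.hom.left) h1)

end GrothLib.MultExt14
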